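import Cfsg.Agent.Lib.PG.Gen

set_option autoImplicit false
set_option maxRecDepth 100000
set_option Elab.async false
set_option exponentiation.threshold 100000

namespace Cfsg.Agent.Golay.T2
open Cfsg.Agent.PG

noncomputable def n0 : Net :=
 (.cons 16 0x5087
 (.cons 8 0x440084
 (.cons 4 0x40b0600
 (.cons 2 0x10020000
 (.cons 1 0x404145
 (.cons 2 0x200200
 (.cons 4 0x4000601
 (.cons 8 0x40026
 (.cons 16 0x5096
 .nil)))))))))

noncomputable def n1 : Net :=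
 (.cons 16 0xcb00
 (.cons 8 0xb00c0
 (.cons 4 0x4010600
 (.cons 2 0x3211200
 (.cons 1 0x5454404
 (.cons 2 0x200200
 (.cons 4 0xc010600
 (.cons 8 0xa00d0
 (.cons 16 0xcb40
 .nil)))))))))

noncomputable def n2 : Net :=
 (.cons 16 0x42a4
 (.cons 8 0x4000a1
 (.cons 4 0x408
 (.cons 2 0x203001
 (.cons 1 0x450040
 (.cons 2 0x200020
 (.cons 4 0x50c04
 (.cons 8 0x20089
 (.cons 16 0x4288
 .nil)))))))))

noncomputable def n3 : Net :=
 (.cons 16 0x4b00
 (.cons 8 0x250020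
 (.cons 4 0x30a0000
 (.cons 2 0x10322020
 (.cons 1 0x4010040
 (.cons 2 0x20020
 (.cons 4 0x10a0000
 (.cons 8 0x250020
 (.cons 16 0x4b00
 .nil)))))))))

noncomputable def n4 : Net :=
 (.cons 16 0x900
 (.cons 8 0x840000
 (.cons 4 0x80a0400
 (.cons 2 0x1302220
 (.cons 1 0x510440
 (.cons 2 0x220
 (.cons 4 0xa0400
 (.cons 8 0x840000
 (.cons 16 0x900
 .nil)))))))))

noncomputable def n5 : Net :=
 (.cons 16 0x8260
 (.cons 8 0x20020
 (.cons 4 0x8080c00
 (.cons 2 0x2332120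
 (.cons 1 0x50040
 (.cons 2 0x20
 (.cons 4 0x8080c00
 (.cons 8 0x20020
 (.cons 16 0x8260
 .nil)))))))))

noncomputable def n6 : Net :=
 (.cons 16 0xa900
 (.cons 8 0x320060
 (.cons 4 0x1020200
 (.cons 2 0x22000000
 (.cons 1 0x450000
 (.cons 4 0x20000
 (.cons 8 0x320020
 (.cons 16 0xa900
 .nil))))))))

noncomputable def A : List Net := [n0, n1, n2, n3, n4, n5, n6]

theorem hA : okA (2 ^ 5) A = true := by decide +kernel

theorem hlen : A.length = 7 := rfl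

def tr3 : List ℕ := [1, 0x106, 0x108, 0x10a, 0x10c, 0x10608, 0x1060a, 0x1060c
  , 0x1080a, 0x1080c, 0x10a0c, 0x106080a, 0x106080c, 0x1060a0c, 0x1080a0c, 0x106080a0c
  ]

def ce3 : List (List (ℕ × ℕ)) := [[(1, 1), (2, 1), (3, 1), (4, 1)],
  [(0, 1), (5, 1), (6, 1), (7, 1)],
  [(5, 1), (0, 1), (8, 1), (9, 1)],
  [(6, 1), (8, 1), (0, 1), (10, 1)],
  [(7, 1), (9, 1), (10, 1), (0, 1)],
  [(2, 1), (1, 1), (11, 1), (12, 1)],
  [(3, 1), (11, 1), (1, 1), (13, 1)],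
  [(4, 1), (12, 1), (13, 1), (1, 1)],
  [(11, 1), (3, 1), (2, 1), (14, 1)],
  [(12, 1), (4, 1), (14, 1), (2, 1)],
  [(13, 1), (14, 1), (4, 1), (3, 1)],
  [(8, 1), (6, 1), (5, 1), (15, 1)],
  [(9, 1), (7, 1), (15, 1), (5, 1)],
  [(10, 1), (15, 1), (7, 1), (6, 1)],
  [(15, 1), (10, 1), (9, 1), (8, 1)],
  [(14, 1), (13, 1), (12, 1), (11, 1)]]

noncomputable def cl3_l : List Claim := plainClaims 3 tr3 ce3

def tr2 : List ℕ := [1, 0x104]

def ce2 : List (List (ℕ × ℕ)) := [[(1, 1), (0, 0x106), (0, 0x108), (0, 0x10a), (0, 0x10c)],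
  [(0, 0x1080a0c), (1, 0x106), (1, 0x10a0c), (1, 0x106080c), (1, 0x1060c)]]

noncomputable def cl2_l : List Claim := plainClaims 2 tr2 ce2

def tr1 : List ℕ := [1, 0x102, 0x103, 0x10202]

def ce1 : List (List (ℕ × ℕ)) := [[(1, 1), (0, 0x1080a0c04), (0, 0x106), (0, 0x108), (0, 0x10a), (0, 0x10c)],
  [(3, 1), (2, 0x1060a04), (1, 0x10a), (1, 0x10608), (1, 0x1080a0c), (1, 0x1080a)],
  [(0, 1), (1, 0x106080a0c04), (2, 0x106080c), (2, 0x1060c), (2, 0x106), (2, 0x10a0c)],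
  [(2, 1), (3, 0x106080c04), (3, 0x1080a0c), (3, 0x106080a), (3, 0x106080c), (3, 0x1060a0c)]]

noncomputable def cl1_l : List Claim := plainClaims 1 tr1 ce1

def cj0 : List ℕ := [0x104, 0x106, 0x10a0c, 0x10a, 0x1080a]

def reps0 : List Rep := [⟨1, [(0x102, 0x102), (0x104, 0x104), (0x106, 0x106), (0x108, 0x108), (0x10a, 0x10a), (0x10c, 0x10c)],
   [(1, 1, 1, 1)], 3⟩,
  ⟨0x100, [(0x10a04, 0x10a04)],
   [(1, 1, 0, 0x1080a0c),
    (0x103, 0x102, 2, 0x1080c02),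
    (0x10303, 1, 3, 1)], 2⟩,
  ⟨0x1000200, [(0x10403, 0x1060402), (0x10402, 0x1060403)],
   [(1, 0x102, 1, 0x106080c)], 2⟩,
  ⟨0x100020200, [(0x102, 0x1080c02)],
   [(1, 0x10202, 1, 0x106)], 4⟩]

noncomputable def cl0_l : List Claim := dcClaims 0 2 cj0 reps0

theorem cl3_0 : chk A 5 (cl3_l) = true := by decide +kernel

theorem ok3 : plainOK A 3 7 5 tr3 ce3 = true := by decide +kernel

theorem orb3 : orbCardB A 2 3 5 2 16 = true := by decide +kernel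

theorem cl2_0 : chk A 5 (cl2_l) = true := by decide +kernel

theorem ok2 : plainOK A 2 3 12 tr2 ce2 = true := by decide +kernel

theorem orb2 : orbCardB A 2 2 12 2 2 = true := by decide +kernel

theorem cl1_0 : chk A 5 (cl1_l) = true := by decide +kernel

theorem ok1 : plainOK A 1 2 4 tr1 ce1 = true := by decide +kernel

theorem orb1 : orbCardB A 2 1 4 3 4 = true := by decide +kernel

theorem cl0_0 : chk A 5 (cl0_l) = true := by decide +kernel

theorem ok0 : dcOK A 0 2 0 4 3 cj0 reps0 = true := by decide +kernel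

theorem orb0 : orbCardB A 2 0 0 4 8 = true := by decide +kernel

theorem card4 : Nat.card (K A 7) = 1 := card_K_last A (le_of_eq hlen)

theorem cl3 : ∀ c ∈ cl3_l, Holds A c :=
  (chk_spec hA cl3_0)

theorem stab3 : StabIs A 3 5 7 := stabIs_plain hA ok3 cl3

theorem card3 : Nat.card (K A 3) = 16 := card_K_step hA stab3 orb3 card4

theorem cl2 : ∀ c ∈ cl2_l, Holds A c :=
  (chk_spec hA cl2_0)

theorem stab2 : StabIs A 2 12 3 := stabIs_plain hA ok2 cl2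

theorem card2 : Nat.card (K A 2) = 32 := card_K_step hA stab2 orb2 card3

theorem cl1 : ∀ c ∈ cl1_l, Holds A c :=
  (chk_spec hA cl1_0)

theorem stab1 : StabIs A 1 4 2 := stabIs_plain hA ok1 cl1

theorem card1 : Nat.card (K A 1) = 128 := card_K_step hA stab1 orb1 card2

theorem cl0 : ∀ c ∈ cl0_l, Holds A c :=
  (chk_spec hA cl0_0)

theorem stab0 : StabIs A 0 0 1 := stabIs_dc hA stab1 ok0 cl0

theorem card0 : Nat.card (K A 0) = 1024 := card_K_step hA stab0 orb0 card1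

theorem fixTriv0 {B : Set ℕ} (h0 : 0 ∈ B) (h1 : 4 ∈ B) (h2 : 12 ∈ B) (h3 : 5 ∈ B) : FixTriv (K A 0) B :=
  fixTriv_step stab0 h0 <| fixTriv_step stab1 h1 <| fixTriv_step stab2 h2 <| fixTriv_step stab3 h3 <| fixTriv_last A (le_of_eq hlen) B

theorem fixTriv1 {B : Set ℕ} (h1 : 4 ∈ B) (h2 : 12 ∈ B) (h3 : 5 ∈ B) : FixTriv (K A 1) B :=
  fixTriv_step stab1 h1 <| fixTriv_step stab2 h2 <| fixTriv_step stab3 h3 <| fixTriv_last A (le_of_eq hlen) B

theorem fixTriv2 {B : Set ℕ} (h2 : 12 ∈ B) (h3 : 5 ∈ B) : FixTriv (K A 2) B :=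
  fixTriv_step stab2 h2 <| fixTriv_step stab3 h3 <| fixTriv_last A (le_of_eq hlen) B

theorem fixTriv3 {B : Set ℕ} (h3 : 5 ∈ B) : FixTriv (K A 3) B :=
  fixTriv_step stab3 h3 <| fixTriv_last A (le_of_eq hlen) B


end Cfsg.Agent.Golay.T2
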